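import Mathlib.Data.Nat.Notation

/-! Generated data for the outer automorphism group of J₃. -/

set_option autoImplicit false

namespace Cfsg.Agent.H46.J3Out

/-- Word in the basic matrices whose conjugate of the involution gives an element of order 17. -/
def gWord : List ℕ := [1, 4]

/-- Its inverse. -/
def gInvWord : List ℕ := [9, 6]

/-- The basic matrices as words in the two generators, up to the given power of the scalar. -/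
def basicWords : List (List ℕ × ℕ) := [
  ([0, 0, 1, 0, 0, 0, 0, 0, 0, 0, 0, 0, 0, 0, 0, 0, 1, 0, 0, 0, 0, 0, 0, 0, 0, 0, 0, 0, 0, 0, 0, 0, 0, 1, 0, 0, 0, 0, 0, 0, 0, 0, 0, 1, 0, 0, 0, 0, 0, 0, 0, 0, 0, 0, 0, 1, 0, 0, 1, 0, 0, 0, 0, 0, 0, 0, 0, 0, 0, 0, 1], 2),
  ([0, 1, 0, 0, 1, 0, 0, 0, 0, 0, 0, 0, 0, 0, 0, 0, 0, 0, 0, 1, 0, 0, 0, 0, 0, 0, 0, 0, 0, 0, 0, 0, 0, 0, 1, 0, 0, 0, 0, 0, 1, 0, 0, 0, 0, 0, 0, 0, 0, 0, 1], 0),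
  ([0, 1, 0, 0, 0, 0, 0, 0, 0, 0, 0, 0, 0, 1, 0, 0, 0, 0, 0, 0, 0, 0, 0, 1, 0, 0, 0, 0, 0, 0, 1, 0, 0, 0, 1, 0, 0, 0, 0, 0, 0, 0, 0, 0, 0, 1, 0, 0, 0, 0, 0, 0, 0, 0, 1], 2),
  ([0, 1, 0, 0, 0, 0, 0, 0, 0, 0, 1, 0, 0, 0, 0, 0, 1, 0, 0, 0, 0, 0, 0, 0, 0, 0, 1, 0, 0, 0, 0, 1, 0, 0, 0, 0, 0, 1, 0, 1], 1),
  ([0, 0, 0, 1, 0, 0, 0, 0, 0, 0, 0, 0, 0, 0, 0, 0, 0, 0, 0, 0, 1, 0, 0, 0, 0, 0, 0, 0, 0, 0, 0, 0, 1, 0, 0, 0, 0, 0, 0, 0, 0, 0, 1, 0, 0, 0, 0, 0, 0, 0, 0, 0, 1, 0, 0, 0, 0, 0, 0, 0, 0, 0, 0, 0, 0, 0, 1, 0, 0, 0, 0, 0, 0, 0, 0, 0, 0, 0, 1], 1)]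

/-- Relations of the two generators: words and exponents. -/
def rels : List (List ℕ × ℕ) := [
  ([0, 0, 0, 0, 0, 0, 1], 5),
  ([0, 1, 0, 1], 5),
  ([0, 1, 0, 0, 0, 1], 5),
  ([0, 0, 1, 0, 0, 1], 6)]

end Cfsg.Agent.H46.J3Out
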