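import Cfsg.Agent.H95.J3InvStruct
import Cfsg.Agent.H46.J3Out.Data

/-!
Kernel checks for a generating pair of J₃: an element of order 17 and an involution.
-/

set_option autoImplicit false
set_option Elab.async false

namespace Cfsg.Agent.H46.J3Out

open Cfsg.Agent.Compute
open Cfsg.Agent.H44.J3
open Cfsg.Agent.H95.J3Inv

/-- The element of order 17. -/
noncomputable def xC : ℕ := mulM tCode (mulM (bWord gWord) (mulM tCode (bWord gInvWord)))

/-- An element conjugating it to its square. -/
noncomputable def cC : ℕ := mulM (qC.elt 25) (altC.elt 43)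

/-- The element of the centraliser of the involution with the given indices. -/
noncomputable def cand (i j : ℕ) : ℕ := mulM (qC.elt i) (altC.elt j)

/-- The second generator. -/
noncomputable def yC : ℕ := cand 0 23

/-- Scalars of 3·J₃. -/
noncomputable def isScal (m : ℕ) : Bool :=
  Nat.beq m oneM || Nat.beq m scalM || Nat.beq m (mulM scalM scalM)

/-- Value of a word in two elements. -/
noncomputable def wordXY (X Y : ℕ) (u : List ℕ) : ℕ :=
  List.rec oneM (fun l _ ih => mulM (cond (Nat.beq l 0) X Y) ih) u

/-- All relations hold. -/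
noncomputable def relsHold (X Y : ℕ) : Bool :=
  lall rels (fun r => isScal (powM (wordXY X Y r.1) r.2))

/-- Some relation fails. -/
noncomputable def relFails (X Y : ℕ) : Bool :=
  Option.isSome (lfind rels (fun r => !isScal (powM (wordXY X Y r.1) r.2)))

noncomputable def candRow (i : ℕ) : Bool :=
  allN 60 (fun j =>
    !isScal (mulM (cand i j) (cand i j)) ||
      ((((Nat.beq i 0 || Nat.beq i 3) && Nat.beq j 23) || relFails xC (cand i j)) &&
        relFails (powM xC 3) (cand i j)))

/-- Parity of the low bits on the diagonal. -/
noncomputable def trBit (d M : ℕ) : ℕ → Bool := fun k =>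
  Nat.rec false (fun z ih =>
    xor (Nat.beq (Nat.land (Nat.shiftRight (getP 18 M z) (Nat.add d z)) 1) 1) ih) k

theorem x_ok : (Nat.beq (powM xC 17) oneM && !isScal xC &&
    Nat.beq (mulM tCode (mulM xC tCode)) (powM xC 16) &&
    Nat.beq (mulM cC xC) (mulM (powM xC 2) cC)) = true := by decide +kernel

theorem y_ok : (isScal (mulM yC yC) && !isScal yC && relsHold xC yC) = true := by decide +kernel

theorem basic_words_ok : (Nat.beq basicWords.length 5 && allN 5 (fun a =>
    Nat.beq (mulM (powM scalM (nth ([], 0) basicWords a).2)
      (wordXY xC yC (nth ([], 0) basicWords a).1)) (nth (oneM, oneM) basics a).1)) = true := by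
  decide +kernel

theorem trace_ok : (!trBit 0 xC 9 && !trBit 9 xC 9 && trBit 0 (powM xC 3) 9 &&
    !trBit 9 (powM xC 3) 9 && trBit 0 xM 9 && trBit 9 xM 9) = true := by decide +kernel

theorem cand_ok0 : allN 16 candRow = true := by decide +kernel

theorem cand_ok1 : allN 16 (fun i => candRow (Nat.add 16 i)) = true := by decide +kernel

end Cfsg.Agent.H46.J3Out
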