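import Cfsg.Agent.H46.J3Out.Check

/-!
The Galois automorphism of F followed by the conjugation of the index field normalises 3·J₃.
-/

set_option autoImplicit false

namespace Cfsg.Agent.H46.J3Out

open Cfsg.Agent.H44.J3
open Cfsg.Spor (F9)

/-- Conjugation of the field with nine elements. -/
def cj (z : F9) : F9 := (z.1, -z.2)

theorem cj_cj (z : F9) : cj (cj z) = z := by simp [cj]

theorem cj_add (a b : F9) : cj (a + b) = cj a + cj b := by
  simp [cj, Prod.ext_iff, add_comm]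

theorem cj_facts : ∀ Z z : F9, cj (F9.mul Z z) = F9.mul (cj Z) (cj z) ∧
    cj (F9.div Z z) = F9.div (cj Z) (cj z) := by decide

theorem cj_mask : ∀ Z z w : F9,
    (cj w = -F9.div Z (cj z) ∨ cj w = F9.mul F9.I (F9.div Z (cj z)) ∨
        cj w = -F9.mul F9.I (F9.div Z (cj z))) ↔
      (w = -F9.div (cj Z) z ∨ w = F9.mul F9.I (F9.div (cj Z) z) ∨
        w = -F9.mul F9.I (F9.div (cj Z) z)) := by decide +kernel

/-- The index permutation. -/
def cjE : F9 ≃ F9 := ⟨cj, cj, cj_cj, cj_cj⟩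

section
variable {F : Type*} [Field F] [Fintype F] {ω : F} (hf : Four F ω)
include hf

theorem pow_four (a : F) : a ^ 4 = a := by
  have := FiniteField.pow_card a
  rwa [hf.card] at this

theorem sq_add (a b : F) : (a + b) ^ 2 = a ^ 2 + b ^ 2 := by
  linear_combination a * b * hf.two

/-- The squaring automorphism. -/
def sqE : F ≃+* F where
  toFun a := a ^ 2
  invFun a := a ^ 2
  left_inv a := by show (a ^ 2) ^ 2 = a; rw [← pow_mul]; exact pow_four hf a
  right_inv a := by show (a ^ 2) ^ 2 = a; rw [← pow_mul]; exact pow_four hf a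
  map_mul' a b := mul_pow a b 2
  map_add' a b := sq_add hf a b

theorem omegaPow_sq (n : ZMod 3) :
    Cfsg.Spor.omegaPow F ω n ^ 2 = Cfsg.Spor.omegaPow F ω (-n) := by
  have h3 : ω ^ 3 = 1 := by linear_combination (ω - 1) * hf.root
  have cases3 : ∀ n : ZMod 3, n = 0 ∨ n = 1 ∨ n = 2 := by decide
  rcases cases3 n with rfl | rfl | rfl
  · simp [Cfsg.Spor.omegaPow]
  · rw [Cfsg.Spor.omegaPow, Cfsg.Spor.omegaPow, show (1 : ZMod 3).val = 1 from rfl,
      show (-1 : ZMod 3).val = 2 from rfl]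
    ring
  · rw [Cfsg.Spor.omegaPow, Cfsg.Spor.omegaPow, show (2 : ZMod 3).val = 2 from rfl,
      show (-2 : ZMod 3).val = 1 from rfl, ← pow_mul]
    calc ω ^ (2 * 2) = ω ^ 3 * ω := by ring
      _ = ω ^ 1 := by rw [h3, one_mul, pow_one]

/-- The automorphism of the matrix ring. -/
def tau : Matrix F9 F9 F ≃* Matrix F9 F9 F where
  toFun M := (M.map (sqE hf)).submatrix cjE cjE
  invFun M := (M.map (sqE hf)).submatrix cjE cjE
  left_inv M := by
    ext w z
    show ((M (cj (cj w)) (cj (cj z))) ^ 2) ^ 2 = M w z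
    rw [cj_cj, cj_cj, ← pow_mul]
    exact pow_four hf _
  right_inv M := by
    ext w z
    show ((M (cj (cj w)) (cj (cj z))) ^ 2) ^ 2 = M w z
    rw [cj_cj, cj_cj, ← pow_mul]
    exact pow_four hf _
  map_mul' M N := by rw [Matrix.map_mul, Matrix.submatrix_mul_equiv]

theorem tau_apply (M : Matrix F9 F9 F) (w z : F9) : tau hf M w z = M (cj w) (cj z) ^ 2 := rfl

theorem trace_tau (M : Matrix F9 F9 F) :
    Matrix.trace (tau hf M) = Matrix.trace M ^ 2 := by
  show ∑ z, M (cj z) (cj z) ^ 2 = (∑ z, M z z) ^ 2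
  rw [show (∑ z, M z z) ^ 2 = ∑ z, M z z ^ 2 from map_sum (sqE hf) _ _]
  exact Fintype.sum_equiv cjE _ _ fun z => rfl

/-- The automorphism of GL₉. -/
def tauG : GL F9 F ≃* GL F9 F := Units.mapEquiv (tau hf)

theorem tauG_tauG (g : GL F9 F) : tauG hf (tauG hf g) = g :=
  Units.ext ((tau hf).left_inv _)

theorem tau_A (Z : F9) : tau hf (Cfsg.Spor.j3A F ω Z) = Cfsg.Spor.j3A F ω (-Z.1, Z.2) := by
  ext w z
  rw [tau_apply]
  simp only [Cfsg.Spor.j3A, Matrix.diagonal_apply, show cj w = cj z ↔ w = z from cjE.injective.eq_iff]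
  split_ifs
  · rw [omegaPow_sq hf]
    congr 1
    simp only [cj]
    ring
  · simp

theorem tau_E (Z : F9) : tau hf (Cfsg.Spor.j3E F ω Z) * Cfsg.Spor.j3E F ω (cj Z) = 1 := by
  have h : tau hf (Cfsg.Spor.j3E F ω Z) =
      Matrix.diagonal fun z =>
        Cfsg.Spor.omegaPow F ω (-((Z.1 - z.1) ^ 2 + (-Z.2 - z.2) ^ 2)) := by
    ext w z
    rw [tau_apply]
    simp only [Cfsg.Spor.j3E, Matrix.diagonal_apply,
      show cj w = cj z ↔ w = z from cjE.injective.eq_iff]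
    split_ifs
    · rw [omegaPow_sq hf]
      congr 1
      simp only [cj]
      ring
    · simp
  rw [h, Cfsg.Spor.j3E, Matrix.diagonal_mul_diagonal, ← Matrix.diagonal_one]
  congr 1
  funext z
  have h3 : ω ^ 3 = 1 := by linear_combination (ω - 1) * hf.root
  have key : ∀ n : ZMod 3, (-n).val + n.val = 0 ∨ (-n).val + n.val = 3 := by decide
  simp only [cj, Cfsg.Spor.omegaPow, ← pow_add]
  rcases key ((Z.1 - z.1) ^ 2 + (-Z.2 - z.2) ^ 2) with e | e <;> rw [e]
  · rw [pow_zero]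
  · exact h3

theorem lam_sq (Z z : F9) :
    Cfsg.Spor.j3Lam F ω Z (cj z) ^ 2 = Cfsg.Spor.j3Lam F ω (cj Z) z := by
  have hw2 : (ω ^ 2) ^ 2 = ω := by rw [← pow_mul]; exact pow_four hf ω
  have key : ∀ Z z : F9, (cj z = 0 ↔ z = 0) ∧
      (F9.div Z (cj z) = F9.I - F9.one ↔ F9.div (cj Z) z = -F9.I - F9.one) ∧
      (F9.div Z (cj z) = -F9.I - F9.one ↔ F9.div (cj Z) z = F9.I - F9.one) := by decide +kernel
  obtain ⟨k0, k1, k2⟩ := key Z z
  have hne : F9.I - F9.one ≠ -F9.I - F9.one := by decide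
  simp only [Cfsg.Spor.j3Lam]
  simp only [k0, k1, k2]
  split_ifs with h0 h1 h2 <;> simp_all

theorem tau_D (Z : F9) : tau hf (Cfsg.Spor.j3D F ω Z) = Cfsg.Spor.j3D F ω (cj Z) := by
  ext w z
  rw [tau_apply]
  simp only [Cfsg.Spor.j3D, Matrix.of_apply]
  have h : cj w = cj z + Z ↔ w = z + cj Z := by
    rw [← cjE.injective.eq_iff]
    show cj (cj w) = cj (cj z + Z) ↔ _
    rw [cj_cj, cj_add, cj_cj]
  simp only [h]
  split_ifs
  · exact lam_sq hf Z z
  · simp

theorem tau_B (Z : F9) : tau hf (Cfsg.Spor.j3B F Z) = Cfsg.Spor.j3B F (cj Z) := by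
  ext w z
  rw [tau_apply]
  simp only [Cfsg.Spor.j3B, Matrix.of_apply]
  have h : cj w = F9.mul Z (cj z) ↔ w = F9.mul (cj Z) z := by
    rw [← cjE.injective.eq_iff]
    show cj (cj w) = cj (F9.mul Z (cj z)) ↔ _
    rw [cj_cj, (cj_facts Z (cj z)).1, cj_cj]
  simp only [h]
  split_ifs <;> simp

theorem tau_C (Z : F9) : tau hf (Cfsg.Spor.j3C F Z) = Cfsg.Spor.j3C F (cj Z) := by
  ext w z
  rw [tau_apply]
  simp only [Cfsg.Spor.j3C, Matrix.of_apply]
  have h0 : ∀ u : F9, cj u = 0 ↔ u = 0 := by decide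
  simp only [h0, cj_mask Z z w]
  split_ifs <;> simp

theorem tauG_mem {g : GL F9 F} (hg : g ∈ Cfsg.Spor.threeJ3 F ω) :
    tauG hf g ∈ Cfsg.Spor.threeJ3 F ω := by
  have hne : ∀ Z : F9, Z ≠ 0 → cj Z ≠ 0 := by decide
  refine (Subgroup.closure_le (K := (Cfsg.Spor.threeJ3 F ω).comap (tauG hf).toMonoidHom)).2 ?_ hg
  intro h hh
  show tauG hf h ∈ Cfsg.Spor.threeJ3 F ω
  have e : ∀ M, (h : Matrix F9 F9 F) = M → ((tauG hf h : GL F9 F) : Matrix F9 F9 F) = tau hf M :=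
    fun M hM => by rw [← hM]; rfl
  rcases hh with (((⟨Z, he⟩ | ⟨Z, he⟩) | ⟨Z, he⟩) | ⟨Z, hZ, he⟩) | ⟨Z, hZ, he⟩
  · refine Subgroup.subset_closure (Or.inl (Or.inl (Or.inl (Or.inl ⟨(-Z.1, Z.2), ?_⟩))))
    rw [e _ he.symm, tau_A hf]
  · obtain ⟨o, hm⟩ := wit_mem hf (gCode_mem hf (cj Z)).2.1
    rw [← threeJ3_eq hf] at hm
    have hmul : tauG hf h * (snd hf).den (gCode tabE (cj Z)) = 1 := Units.ext (by
      rw [Units.val_mul, e _ he.symm, snd_den_coe hf o, eE_val hf, tau_E hf]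
      rfl)
    rw [eq_inv_of_mul_eq_one_left hmul]
    exact inv_mem hm
  · refine Subgroup.subset_closure (Or.inl (Or.inl (Or.inr ⟨cj Z, ?_⟩)))
    rw [e _ he.symm, tau_D hf]
  · refine Subgroup.subset_closure (Or.inl (Or.inr ⟨cj Z, hne Z hZ, ?_⟩))
    rw [e _ he, tau_B hf]
  · refine Subgroup.subset_closure (Or.inr ⟨cj Z, hne Z hZ, ?_⟩)
    rw [e _ he, tau_C hf]

/-- The automorphism of 3·J₃. -/
def tauT : Cfsg.Spor.threeJ3 F ω ≃* Cfsg.Spor.threeJ3 F ω where
  toFun g := ⟨tauG hf g, tauG_mem hf g.2⟩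
  invFun g := ⟨tauG hf g, tauG_mem hf g.2⟩
  left_inv g := Subtype.ext (tauG_tauG hf g)
  right_inv g := Subtype.ext (tauG_tauG hf g)
  map_mul' g h := Subtype.ext (map_mul (tauG hf) _ _)

/-- The automorphism of J₃. -/
noncomputable def tauJ : MulAut (Cfsg.Spor.J3 F ω) :=
  QuotientGroup.congr _ _ (tauT hf) (by
    ext x
    constructor
    · rintro ⟨y, hy, rfl⟩
      refine Subgroup.mem_center_iff.2 fun u => ?_
      obtain ⟨v, rfl⟩ := (tauT hf).surjective u
      show tauT hf v * tauT hf y = tauT hf y * tauT hf v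
      rw [← map_mul, ← map_mul, Subgroup.mem_center_iff.1 hy v]
    · intro hx
      refine ⟨(tauT hf).symm x, Subgroup.mem_center_iff.2 fun u => ?_, (tauT hf).apply_symm_apply x⟩
      apply (tauT hf).injective
      rw [map_mul, map_mul, MulEquiv.apply_symm_apply, Subgroup.mem_center_iff.1 hx])

end

end Cfsg.Agent.H46.J3Out
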