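import Cfsg.Agent.H46.J3Out.Check

/-!
A generating pair of J₃ consisting of an element of order 17 and an involution; any automorphism
can be normalised to one of two possibilities on it.
-/

set_option autoImplicit false

namespace Cfsg.Agent.H46.J3Out

open Cfsg.Agent.Compute
open Cfsg.Agent.H44.J3
open Cfsg.Agent.H95.J3Inv
open Cfsg.Spor (F9)

attribute [local irreducible] validM invM mulM appM oneM wmul sift checkChain normOK scalM xM powM
  bWord denM tCode cand xC cC yC wordXY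

section
variable {F : Type*} [Field F] [Fintype F] {ω : F} (hf : Four F ω)
include hf

/-- A code of an element of 3·J₃. -/
def Good (m : ℕ) : Prop := (snd hf).ok m ∧ (snd hf).den m ∈ Cfsg.Spor.threeJ3 F ω

/-- The image in J₃ of a code. -/
noncomputable def pE (m : ℕ) : Cfsg.Spor.J3 F ω := by
  classical
  exact if h : (snd hf).den m ∈ Cfsg.Spor.threeJ3 F ω then π ⟨(snd hf).den m, h⟩ else 1

theorem pE_eq {m : ℕ} (g : Cfsg.Spor.threeJ3 F ω) (h : (snd hf).den m = g) : pE hf m = π g := by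
  have h' : (snd hf).den m ∈ Cfsg.Spor.threeJ3 F ω := h ▸ g.2
  rw [pE, dif_pos h']
  exact congrArg π (Subtype.ext h)

theorem good_one : Good hf oneM :=
  ⟨(snd hf).ok_one, by
    rw [show (snd hf).den oneM = 1 from (snd hf).den_one]; exact one_mem _⟩

theorem pE_one : pE hf oneM = 1 := by
  rw [pE_eq hf (m := oneM) 1 (snd hf).den_one, map_one]

theorem good_mul {a b : ℕ} (ha : Good hf a) (hb : Good hf b) :
    Good hf (mulM a b) ∧ pE hf (mulM a b) = pE hf a * pE hf b := by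
  have e : (snd hf).den (mulM a b) = (snd hf).den a * (snd hf).den b := (snd hf).den_mul ha.1 hb.1
  refine ⟨⟨(snd hf).ok_mul ha.1 hb.1, e ▸ mul_mem ha.2 hb.2⟩, ?_⟩
  rw [pE_eq hf (⟨_, ha.2⟩ * ⟨_, hb.2⟩) e, map_mul, pE_eq hf ⟨_, ha.2⟩ rfl, pE_eq hf ⟨_, hb.2⟩ rfl]

theorem good_pow {a : ℕ} (ha : Good hf a) (n : ℕ) :
    Good hf (powM a n) ∧ pE hf (powM a n) = pE hf a ^ n := by
  obtain ⟨o, e⟩ := den_powM hf ha.1 n
  refine ⟨⟨o, e ▸ pow_mem ha.2 n⟩, ?_⟩
  rw [pE_eq hf (⟨_, ha.2⟩ ^ n) (by rw [e]; rfl), map_pow, pE_eq hf ⟨_, ha.2⟩ rfl]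

theorem good_scal : Good hf scalM ∧ pE hf scalM = 1 := by
  refine ⟨⟨scal_ok' hf, scEl_mem hf⟩, ?_⟩
  rw [pE_eq hf ⟨_, scEl_mem hf⟩ rfl, pi_eq_one, Cfsg.Agent.H44.J3.mem_center_iff hf]
  exact Subgroup.mem_zpowers _

theorem pE_eq_one_iff {m : ℕ} (hm : Good hf m) : isScal m = true ↔ pE hf m = 1 := by
  have os := (good_scal hf).1
  constructor
  · intro h
    simp only [isScal, Bool.or_eq_true, Nat.beq_eq] at h
    rcases h with (rfl | rfl) | rfl
    · exact pE_one hf
    · exact (good_scal hf).2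
    · rw [(good_mul hf os os).2, (good_scal hf).2, mul_one]
  · intro h
    rw [pE_eq hf ⟨_, hm.2⟩ rfl, pi_eq_one, Cfsg.Agent.H44.J3.mem_center_iff hf] at h
    obtain ⟨k, hk⟩ := Subgroup.mem_zpowers_iff.1 h
    have hk' : scEl hf ^ (k % 3) = (snd hf).den m := by
      refine Eq.trans ?_ hk
      conv_rhs => rw [← zpow_mod_orderOf, orderOf_scEl hf]
      norm_num
    simp only [isScal, Bool.or_eq_true]
    have k3 : k % 3 = 0 ∨ k % 3 = 1 ∨ k % 3 = 2 := by omega
    rcases k3 with r | r | r <;> rw [r] at hk'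
    · exact Or.inl (Or.inl (((snd hf).eqv_iff hm.1 (snd hf).ok_one).2 (by
        rw [← hk', zpow_zero]; exact (snd hf).den_one.symm)))
    · exact Or.inl (Or.inr (((snd hf).eqv_iff hm.1 os.1).2 (by
        rw [← hk', zpow_one]; rfl)))
    · exact Or.inr (((snd hf).eqv_iff hm.1 ((snd hf).ok_mul os.1 os.1)).2 (by
        rw [← hk', zpow_two]; exact ((snd hf).den_mul os.1 os.1).symm))

theorem good_bWord {w : List ℕ} (h : ∀ a ∈ w, a < 10) : Good hf (bWord w) := bWord_mem hf w h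

theorem good_t : Good hf tCode ∧ pE hf tCode = π (tG hf) :=
  ⟨⟨(t_spec hf).1, (t_spec hf).2.1⟩, pE_eq hf (tG hf) rfl⟩

theorem good_elt {l : LCert} (hl : LOK l) {i : ℕ} (hi : i < l.elts.length) :
    Good hf (l.elt i) := elt_spec hf hl hi

theorem good_cand {i j : ℕ} (hi : i < 32) (hj : j < 60) : Good hf (cand i j) := by
  unfold cand
  exact (good_mul hf (good_elt hf q_lok (q_card.symm ▸ hi))
    (good_elt hf alt_lok (alt_card.symm ▸ hj))).1

theorem good_x : Good hf xC := by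
  unfold xC
  exact (good_mul hf (good_t hf).1 (good_mul hf (good_bWord hf (by decide))
    (good_mul hf (good_t hf).1 (good_bWord hf (by decide))).1).1).1

theorem good_c : Good hf cC := by
  unfold cC
  exact (good_mul hf (good_elt hf q_lok (q_card.symm ▸ (by norm_num : 25 < 32)))
    (good_elt hf alt_lok (alt_card.symm ▸ (by norm_num : 43 < 60)))).1

theorem good_y : Good hf yC := by
  unfold yC
  exact good_cand hf (by norm_num) (by norm_num)

/-- The element of order 17. -/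
noncomputable def xB : Cfsg.Spor.J3 F ω := pE hf xC

/-- The second generator. -/
noncomputable def yB : Cfsg.Spor.J3 F ω := pE hf yC

/-- The other image of the second generator. -/
noncomputable def yB' : Cfsg.Spor.J3 F ω := pE hf (cand 3 23)

/-- The involution. -/
noncomputable def tB : Cfsg.Spor.J3 F ω := π (tG hf)

/-- An element inducing squaring on the subgroup of order 17. -/
noncomputable def cB : Cfsg.Spor.J3 F ω := pE hf cC

theorem x_facts : xB hf ^ 17 = 1 ∧ xB hf ≠ 1 ∧ tB hf * xB hf * tB hf = xB hf ^ 16 ∧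
    cB hf * xB hf = xB hf ^ 2 * cB hf := by
  have h := x_ok
  simp only [Bool.and_eq_true, Nat.beq_eq, Bool.not_eq_true'] at h
  obtain ⟨⟨⟨h17, hne⟩, ht⟩, hc⟩ := h
  obtain ⟨gt, et⟩ := good_t hf
  have gx := good_x hf
  refine ⟨?_, fun e => ?_, ?_, ?_⟩
  · rw [xB, ← (good_pow hf gx 17).2, h17, pE_one]
  · rw [(pE_eq_one_iff hf gx).2 e] at hne
    exact absurd hne (by simp)
  · rw [xB, tB, ← et, ← (good_pow hf gx 16).2, ← ht, (good_mul hf gt (good_mul hf gx gt).1).2,
      (good_mul hf gx gt).2, mul_assoc]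
  · rw [xB, cB, ← (good_mul hf (good_c hf) gx).2, hc,
      (good_mul hf (good_pow hf gx 2).1 (good_c hf)).2, (good_pow hf gx 2).2]

theorem orderOf_xB : orderOf (xB hf) = 17 := by
  have : Fact (Nat.Prime 17) := ⟨by norm_num⟩
  exact orderOf_eq_prime (x_facts hf).1 (x_facts hf).2.1

theorem conj_c_pow (i : ℕ) : cB hf ^ i * xB hf * (cB hf ^ i)⁻¹ = xB hf ^ (2 ^ i) := by
  induction i with
  | zero => simp
  | succ k ih =>
    calc cB hf ^ (k + 1) * xB hf * (cB hf ^ (k + 1))⁻¹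
        = cB hf * (cB hf ^ k * xB hf * (cB hf ^ k)⁻¹) * (cB hf)⁻¹ := by
          rw [pow_succ']; group
      _ = (cB hf * xB hf * (cB hf)⁻¹) ^ (2 ^ k) := by rw [ih, conj_pow]
      _ = xB hf ^ (2 ^ (k + 1)) := by
          rw [(x_facts hf).2.2.2, mul_inv_cancel_right, ← pow_mul, ← pow_succ']

omit hf in
theorem trBit_sum (h2 : (2 : F) = 0) (d M : ℕ) (c : F) : ∀ k, bitF (trBit d M k) c =
    ∑ z ∈ Finset.range k,
      bitF (Nat.beq (Nat.land (Nat.shiftRight (getP 18 M z) (Nat.add d z)) 1) 1) c := by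
  intro k
  induction k with
  | zero => rfl
  | succ n ih =>
    rw [Finset.sum_range_succ, ← ih, trBit, trBit, bitF_xor h2]
    exact add_comm _ _

omit hf in
/-- The trace of a coded matrix, from the two bits. -/
theorem trace_matOf (h2 : (2 : F) = 0) (M : ℕ) :
    Matrix.trace (matOf ω M) = bitF (trBit 0 M 9) 1 + bitF (trBit 9 M 9) ω := by
  have key : ∀ z : F9, matOf ω M z z =
      bitF (Nat.beq (Nat.land (Nat.shiftRight (getP 18 M (idx z)) (Nat.add 0 (idx z))) 1) 1) 1 +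
      bitF (Nat.beq (Nat.land (Nat.shiftRight (getP 18 M (idx z)) (Nat.add 9 (idx z))) 1) 1) ω := by
    intro z
    rw [val_of_bits M z z]
    simp only [entryBits]
    rw [show Nat.add 0 (idx z) = idx z from Nat.zero_add _]
  unfold Matrix.trace
  simp only [Matrix.diag, key, Fintype.sum_prod_type]
  simp only [show ∀ f : ZMod 3 → F, ∑ i, f i = f 0 + f 1 + f 2 from fun f => Fin.sum_univ_three f]
  simp only [trBit_sum h2, Finset.sum_range_succ, Finset.sum_range_zero]
  simp only [idx, show (0 : ZMod 3).val = 0 from rfl, show (1 : ZMod 3).val = 1 from rfl,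
    show (2 : ZMod 3).val = 2 from rfl, zero_mul, one_mul, zero_add, add_zero,
    Nat.reduceMul, Nat.reduceAdd]
  ring

theorem trace_den {m : ℕ} (hm : Good hf m) :
    Matrix.trace ((snd hf).den m : Matrix F9 F9 F) =
      bitF (trBit 0 m 9) 1 + bitF (trBit 9 m 9) ω := by
  rw [snd_den_coe hf hm.1, trace_matOf hf.two]

theorem not_isConj_cube : ¬ IsConj (xB hf) (xB hf ^ 3) := by
  intro hc
  obtain ⟨g', hg⟩ := isConj_iff.1 hc
  obtain ⟨g, rfl⟩ := QuotientGroup.mk'_surjective _ g'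
  change π g * xB hf * (π g)⁻¹ = xB hf ^ 3 at hg
  have gx := good_x hf
  let X : Cfsg.Spor.threeJ3 F ω := ⟨(snd hf).den xC, gx.2⟩
  have eX : xB hf = π X := pE_eq hf X rfl
  have h17 : X ^ 17 = 1 := by
    have h := x_ok
    simp only [Bool.and_eq_true, Nat.beq_eq] at h
    refine Subtype.ext ?_
    show (snd hf).den xC ^ 17 = 1
    rw [← (den_powM hf gx.1 17).2, h.1.1.1]
    exact (snd hf).den_one
  rw [eX, ← map_inv, ← map_mul, ← map_mul, ← map_pow] at hg
  have hz : (X ^ 3)⁻¹ * (g * X * g⁻¹) ∈ Subgroup.center (Cfsg.Spor.threeJ3 F ω) :=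
    pi_eq_one.1 (by rw [map_mul, map_inv, hg, inv_mul_cancel])
  generalize hze : (X ^ 3)⁻¹ * (g * X * g⁻¹) = z at hz
  have hz3 := center_cube hf hz
  have hzc : Commute (X ^ 3) z := Subgroup.mem_center_iff.1 hz _
  have e : g * X * g⁻¹ = X ^ 3 * z := by rw [← hze, mul_inv_cancel_left]
  have e17 : z ^ 17 = 1 := by
    have h := congrArg (· ^ 17) e
    simp only [conj_pow, h17, mul_one, mul_inv_cancel, hzc.mul_pow, ← pow_mul] at h
    rw [show 3 * 17 = 17 * 3 by norm_num, pow_mul, h17, one_pow, one_mul] at h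
    exact h.symm
  have hz1 : z = 1 := by
    calc z = z ^ 18 * (z ^ 17)⁻¹ := by rw [eq_mul_inv_iff_mul_eq, ← pow_succ']
      _ = 1 := by rw [e17, show z ^ 18 = (z ^ 3) ^ 6 by rw [← pow_mul], hz3, one_pow, inv_one,
        mul_one]
  rw [hz1, mul_one] at e
  have e' := congrArg (fun u : Cfsg.Spor.threeJ3 F ω => Matrix.trace ((u : GL F9 F) : Matrix F9 F9 F)) e
  simp only [Subgroup.coe_mul, Units.val_mul, Subgroup.coe_inv] at e'
  rw [Matrix.trace_mul_comm, ← Matrix.mul_assoc, Units.inv_mul, Matrix.one_mul] at e'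
  have e3 : (((X ^ 3 : Cfsg.Spor.threeJ3 F ω) : GL F9 F) : Matrix F9 F9 F) =
      (snd hf).den (powM xC 3) := by
    rw [(den_powM hf gx.1 3).2]; rfl
  rw [e3, trace_den hf (good_pow hf gx 3).1, show ((X : GL F9 F) : Matrix F9 F9 F) =
    (snd hf).den xC from rfl, trace_den hf gx] at e'
  have h := trace_ok
  simp only [Bool.and_eq_true, Bool.not_eq_true'] at h
  obtain ⟨⟨⟨⟨⟨a, b⟩, c⟩, d⟩, -⟩, -⟩ := h
  rw [a, b, c, d] at e'
  simp [bitF] at e'

omit hf in
theorem exps : ∀ k < 17, k ≠ 0 →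
    (∃ i < 8, 2 ^ i % 17 = k) ∨ ∃ i < 8, 3 * 2 ^ i % 17 = k := by decide

omit hf in
theorem pow_eq_pow_of_mod {G : Type*} [Group G] {a : G} (h : a ^ 17 = 1) {m n : ℕ}
    (e : m % 17 = n % 17) : a ^ m = a ^ n := by
  rw [pow_eq_pow_mod m h, e, ← pow_eq_pow_mod n h]

theorem not_sq_dvd17 : ¬ 17 ^ 2 ∣ Nat.card (Cfsg.Spor.J3 F ω) := by
  rw [card_J3 hf]; norm_num

/-- Every element of order 17 is conjugate to x or to x³. -/
theorem conj_x {u : Cfsg.Spor.J3 F ω} (hu : orderOf u = 17) :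
    IsConj u (xB hf) ∨ IsConj u (xB hf ^ 3) := by
  have := finite_J3 hf
  have : Fact (Nat.Prime 17) := ⟨by norm_num⟩
  let P : Sylow 17 (Cfsg.Spor.J3 F ω) := Sylow.ofCard (Subgroup.zpowers (xB hf)) (by
    rw [Nat.card_zpowers, orderOf_xB hf, card_J3 hf, Nat.factorization_def _ (by norm_num),
      show (50232960 : ℕ) = 17 ^ 1 * 2954880 by norm_num, padicValNat.mul (by norm_num)
      (by norm_num), padicValNat.prime_pow, padicValNat.eq_zero_of_not_dvd (by norm_num)]
    norm_num)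
  have hp : IsPGroup 17 (Subgroup.zpowers u) :=
    IsPGroup.of_card (n := 1) (by rw [Nat.card_zpowers, hu, pow_one])
  obtain ⟨R, hR⟩ := hp.exists_le_sylow
  obtain ⟨a, ha⟩ := MulAction.exists_smul_eq (Cfsg.Spor.J3 F ω) R P
  have hy : a * u * a⁻¹ ∈ Subgroup.zpowers (xB hf) := by
    show a * u * a⁻¹ ∈ (P : Subgroup (Cfsg.Spor.J3 F ω))
    rw [← ha]
    exact ⟨u, hR (Subgroup.mem_zpowers u), rfl⟩
  obtain ⟨k, hk⟩ := mem_powers_iff_mem_zpowers.2 hy
  change xB hf ^ k = a * u * a⁻¹ at hk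
  have hconj : IsConj u (xB hf ^ k) := hk ▸ isConj_iff.2 ⟨a, rfl⟩
  have h17 := (x_facts hf).1
  have hk0 : k % 17 ≠ 0 := fun e => by
    rw [pow_eq_pow_of_mod h17 (n := 0) (by omega), pow_zero] at hconj
    rw [isConj_one_left.1 hconj, orderOf_one] at hu
    norm_num at hu
  rcases exps (k % 17) (Nat.mod_lt _ (by norm_num)) hk0 with ⟨i, -, hi⟩ | ⟨i, -, hi⟩
  · left
    rw [pow_eq_pow_of_mod h17 (n := 2 ^ i) hi.symm, ← conj_c_pow hf i] at hconj
    exact hconj.trans (isConj_iff.2 ⟨_, rfl⟩ : IsConj (xB hf) _).symm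
  · right
    refine hconj.trans (IsConj.symm (isConj_iff.2 ⟨cB hf ^ i, ?_⟩))
    rw [← conj_pow, conj_c_pow, ← pow_mul, pow_eq_pow_of_mod h17 (n := k) (by
      rw [mul_comm, hi])]

theorem orderOf_tB : orderOf (tB hf) = 2 := orderOf_pi_tG hf

theorem tB_sq : tB hf * tB hf = 1 := by
  have h := pow_orderOf_eq_one (tB hf)
  rwa [orderOf_tB hf, pow_two] at h

/-- The elements centralising the involution, as products from the two lists. -/
theorem centralizer_facts :
    (∀ u ∈ Subgroup.centralizer ({tB hf} : Set (Cfsg.Spor.J3 F ω)),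
      ∃ i < 32, ∃ j < 60, u = pE hf (cand i j)) ∧
    Nat.card (Subgroup.centralizer ({tB hf} : Set (Cfsg.Spor.J3 F ω))) = 1920 := by
  have := finite_J3 hf
  let C := Subgroup.centralizer ({tB hf} : Set (Cfsg.Spor.J3 F ω))
  have hq : ∀ i : Fin 32, pE hf (qC.elt i) ∈ C := fun i => by
    have hi : (i : ℕ) < qC.elts.length := q_card.symm ▸ i.2
    rw [pE_eq hf ⟨_, (good_elt hf q_lok hi).2⟩ rfl]
    exact map_le_centralizer hf q_lok (fun p hp => List.mem_append_left _ hp)
      ⟨_, (mem_sub hf q_lok).2 ⟨i, hi, rfl⟩, rfl⟩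
  have ha : ∀ j : Fin 60, pE hf (altC.elt j) ∈ C := fun j => by
    have hj : (j : ℕ) < altC.elts.length := alt_card.symm ▸ j.2
    rw [pE_eq hf ⟨_, (good_elt hf alt_lok hj).2⟩ rfl]
    exact map_le_centralizer hf alt_lok (fun p hp => List.mem_append_right _ hp)
      ⟨_, (mem_sub hf alt_lok).2 ⟨j, hj, rfl⟩, rfl⟩
  let f : Fin 32 × Fin 60 → C := fun p => ⟨_, mul_mem (hq p.1) (ha p.2)⟩
  have hfi : Function.Injective f := by
    rintro ⟨i, j⟩ ⟨i', j'⟩ e
    have e' : pE hf (qC.elt i) * pE hf (altC.elt j) =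
        pE hf (qC.elt i') * pE hf (altC.elt j') := congrArg Subtype.val e
    have hi : (i : ℕ) < qC.elts.length := q_card.symm ▸ i.2
    have hi' : (i' : ℕ) < qC.elts.length := q_card.symm ▸ i'.2
    have hj : (j : ℕ) < altC.elts.length := alt_card.symm ▸ j.2
    have hj' : (j' : ℕ) < altC.elts.length := alt_card.symm ▸ j'.2
    let a : Cfsg.Spor.threeJ3 F ω := ⟨_, (good_elt hf q_lok hi).2⟩
    let a' : Cfsg.Spor.threeJ3 F ω := ⟨_, (good_elt hf q_lok hi').2⟩
    let b : Cfsg.Spor.threeJ3 F ω := ⟨_, (good_elt hf alt_lok hj).2⟩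
    let b' : Cfsg.Spor.threeJ3 F ω := ⟨_, (good_elt hf alt_lok hj').2⟩
    have sa : a ∈ sub hf q_lok := (mem_sub hf q_lok).2 ⟨i, hi, rfl⟩
    have sa' : a' ∈ sub hf q_lok := (mem_sub hf q_lok).2 ⟨i', hi', rfl⟩
    have sb : b ∈ sub hf alt_lok := (mem_sub hf alt_lok).2 ⟨j, hj, rfl⟩
    have sb' : b' ∈ sub hf alt_lok := (mem_sub hf alt_lok).2 ⟨j', hj', rfl⟩
    rw [pE_eq hf a rfl, pE_eq hf a' rfl, pE_eq hf b rfl, pE_eq hf b' rfl] at e'
    have h1 : π (a'⁻¹ * a) = π (b' * b⁻¹) := by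
      rw [map_mul, map_mul, map_inv, map_inv, inv_mul_eq_iff_eq_mul, ← mul_assoc,
        eq_mul_inv_iff_mul_eq, e']
    have hqa : a'⁻¹ * a ∈ sub hf q_lok := mul_mem (inv_mem sa') sa
    have hba : b' * b⁻¹ ∈ sub hf alt_lok := mul_mem sb' (inv_mem sb)
    have h2 := q_inter hf hqa hba h1
    rw [h2, map_one] at h1
    have h3 : b' * b⁻¹ = 1 := by
      have : b' * b⁻¹ ∈ sub hf alt_lok ⊓ Subgroup.center (Cfsg.Spor.threeJ3 F ω) :=
        ⟨hba, pi_eq_one.1 h1.symm⟩
      exact Subgroup.mem_bot.1 (sub_inf_center hf alt_lok alt_scal ▸ this)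
    rw [inv_mul_eq_one] at h2
    rw [mul_inv_eq_one] at h3
    exact Prod.ext (Fin.ext (el_inj hf q_lok hi hi' (congrArg Subtype.val h2).symm))
      (Fin.ext (el_inj hf alt_lok hj hj' (congrArg Subtype.val h3).symm))
  have hb : Function.Bijective f := by
    refine (Nat.bijective_iff_injective_and_card f).2 ⟨hfi, ?_⟩
    have h1 := Nat.card_le_card_of_injective f hfi
    have h2 : Nat.card C ≤ 1920 := card_centralizer_pi_le hf
    rw [Nat.card_prod, Nat.card_fin, Nat.card_fin] at h1 ⊢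
    omega
  refine ⟨fun u hu => ?_, by
    rw [← Nat.card_congr (Equiv.ofBijective f hb), Nat.card_prod, Nat.card_fin, Nat.card_fin]⟩
  obtain ⟨⟨i, j⟩, he⟩ := hb.2 ⟨u, hu⟩
  refine ⟨i, i.2, j, j.2, ?_⟩
  rw [cand, (good_mul hf (good_elt hf q_lok (q_card.symm ▸ i.2))
    (good_elt hf alt_lok (alt_card.symm ▸ j.2))).2]
  exact (congrArg Subtype.val he).symm

theorem card_centralizer_tB :
    Nat.card (Subgroup.centralizer ({tB hf} : Set (Cfsg.Spor.J3 F ω))) = 1920 :=
  (centralizer_facts hf).2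

/-- The element of order 17 is self-centralising. -/
theorem centralizer_xB :
    Subgroup.centralizer ({xB hf} : Set (Cfsg.Spor.J3 F ω)) = Subgroup.zpowers (xB hf) := by
  have := finite_J3 hf
  have h17 := (x_facts hf).1
  have hord := orderOf_xB hf
  let G := Cfsg.Spor.J3 F ω
  let C := Subgroup.centralizer ({xB hf} : Set G)
  let P := Subgroup.zpowers (xB hf)
  have hPC : P ≤ C := Subgroup.zpowers_le.2 (Subgroup.mem_centralizer_singleton_iff.2 rfl)
  let N := Subgroup.normalizer (P : Set G)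
  have hCN : ∀ d ∈ C, d ∈ N := fun d hd => Subgroup.mem_normalizer_iff.2 fun y => by
    have hd' : d * xB hf = xB hf * d := Subgroup.mem_centralizer_singleton_iff.1 hd
    constructor
    · intro hy
      obtain ⟨k, rfl⟩ := Subgroup.mem_zpowers_iff.1 hy
      rw [((show Commute d (xB hf) from hd').zpow_right k).eq, mul_inv_cancel_right]
      exact hy
    · intro hy
      obtain ⟨k, hk⟩ := Subgroup.mem_zpowers_iff.1 hy
      have : y = d⁻¹ * xB hf ^ k * d := by rw [hk]; group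
      rw [this, mul_assoc, ← ((show Commute d (xB hf) from hd').zpow_right k).eq,
        inv_mul_cancel_left]
      exact Subgroup.zpow_mem _ (Subgroup.mem_zpowers _) k
  have hcN : cB hf ∈ N := by
    have e1 : cB hf * xB hf * (cB hf)⁻¹ = xB hf ^ 2 := by
      rw [(x_facts hf).2.2.2, mul_inv_cancel_right]
    refine Subgroup.mem_normalizer_iff.2 fun y => ⟨fun hy => ?_, fun hy => ?_⟩
    · obtain ⟨k, rfl⟩ := Subgroup.mem_zpowers_iff.1 hy
      rw [← conj_zpow, e1]
      exact Subgroup.zpow_mem _ (Subgroup.pow_mem _ (Subgroup.mem_zpowers _) 2) k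
    · obtain ⟨k, hk⟩ := mem_powers_iff_mem_zpowers.2 hy
      change xB hf ^ k = cB hf * y * (cB hf)⁻¹ at hk
      have hh : cB hf * xB hf ^ (9 * k) * (cB hf)⁻¹ = cB hf * y * (cB hf)⁻¹ := by
        rw [← conj_pow, e1, ← pow_mul, ← hk, pow_eq_pow_of_mod h17]
        omega
      rw [mul_left_inj, mul_right_inj] at hh
      rw [← hh]
      exact Subgroup.pow_mem _ (Subgroup.mem_zpowers _) _
  let f : Fin 8 × C → N := fun p =>
    ⟨cB hf ^ (p.1 : ℕ) * p.2, mul_mem (pow_mem hcN _) (hCN _ p.2.2)⟩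
  have hconj : ∀ p, (f p : G) * xB hf * (f p : G)⁻¹ = xB hf ^ (2 ^ (p.1 : ℕ)) := by
    intro p
    have hd : (p.2 : G) * xB hf = xB hf * p.2 := Subgroup.mem_centralizer_singleton_iff.1 p.2.2
    show cB hf ^ (p.1 : ℕ) * p.2 * xB hf * (cB hf ^ (p.1 : ℕ) * p.2)⁻¹ = _
    rw [mul_assoc (cB hf ^ (p.1 : ℕ)), hd, ← conj_c_pow hf]
    group
  have hbij : Function.Bijective f := by
    constructor
    · rintro ⟨i, d⟩ ⟨i', d'⟩ e
      have h := hconj ⟨i, d⟩
      rw [e, hconj ⟨i', d'⟩] at h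
      have hh := pow_eq_pow_iff_modEq.1 h
      rw [hord] at hh
      have inj : ∀ a b : Fin 8, 2 ^ (b : ℕ) % 17 = 2 ^ (a : ℕ) % 17 → a = b := by decide
      obtain rfl := inj i i' hh
      have e' : cB hf ^ (i : ℕ) * (d : G) = cB hf ^ (i : ℕ) * d' := congrArg Subtype.val e
      rw [mul_right_inj] at e'
      exact Prod.ext rfl (Subtype.ext e')
    · rintro ⟨g, hg⟩
      have hy : g * xB hf * g⁻¹ ∈ P :=
        (Subgroup.mem_normalizer_iff.1 hg _).1 (Subgroup.mem_zpowers _)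
      obtain ⟨k, hk⟩ := mem_powers_iff_mem_zpowers.2 hy
      change xB hf ^ k = g * xB hf * g⁻¹ at hk
      have hk0 : k % 17 ≠ 0 := fun e => by
        rw [pow_eq_pow_of_mod h17 (n := 0) (by omega), pow_zero, eq_comm, mul_inv_eq_one,
          mul_eq_left] at hk
        exact (x_facts hf).2.1 hk
      rcases exps (k % 17) (Nat.mod_lt _ (by norm_num)) hk0 with ⟨i, hi8, hi⟩ | ⟨i, hi8, hi⟩
      · have hd : (cB hf ^ i)⁻¹ * g ∈ C := by
          rw [Subgroup.mem_centralizer_singleton_iff]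
          have e2 : g * xB hf * g⁻¹ = cB hf ^ i * xB hf * (cB hf ^ i)⁻¹ := by
            rw [← hk, conj_c_pow, pow_eq_pow_of_mod h17 hi.symm]
          calc (cB hf ^ i)⁻¹ * g * xB hf
              = (cB hf ^ i)⁻¹ * (g * xB hf * g⁻¹) * g := by group
            _ = xB hf * ((cB hf ^ i)⁻¹ * g) := by rw [e2]; group
        exact ⟨⟨⟨i, hi8⟩, ⟨_, hd⟩⟩, Subtype.ext (mul_inv_cancel_left _ _)⟩
      · exfalso
        refine not_isConj_cube hf (isConj_iff.2 ⟨(cB hf ^ i)⁻¹ * g, ?_⟩)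
        calc (cB hf ^ i)⁻¹ * g * xB hf * ((cB hf ^ i)⁻¹ * g)⁻¹
            = (cB hf ^ i)⁻¹ * (g * xB hf * g⁻¹) * cB hf ^ i := by group
          _ = (cB hf ^ i)⁻¹ * (cB hf ^ i * xB hf * (cB hf ^ i)⁻¹) ^ 3 * cB hf ^ i := by
            rw [← hk, conj_c_pow, ← pow_mul,
              ← pow_eq_pow_of_mod h17 (m := 2 ^ i * 3) (n := k) (by rw [mul_comm]; exact hi)]
          _ = xB hf ^ 3 := by rw [conj_pow]; group
  have hN : Nat.card N = 8 * Nat.card C := by
    rw [← Nat.card_congr (Equiv.ofBijective f hbij), Nat.card_prod, Nat.card_fin]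
  have : Fact (Nat.Prime 17) := ⟨by norm_num⟩
  let S : Sylow 17 G := Sylow.ofCard P (by
    rw [Nat.card_zpowers, hord, card_J3 hf, Nat.factorization_def _ (by norm_num),
      show (50232960 : ℕ) = 17 ^ 1 * 2954880 by norm_num, padicValNat.mul (by norm_num)
      (by norm_num), padicValNat.prime_pow, padicValNat.eq_zero_of_not_dvd (by norm_num)]
    norm_num)
  have hmod : Nat.card (Sylow 17 G) % 17 = 1 := card_sylow_modEq_one 17 G
  rw [S.card_eq_index_normalizer] at hmod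
  change N.index % 17 = 1 at hmod
  have hGN := N.card_mul_index
  rw [hN, card_J3 hf] at hGN
  obtain ⟨d, hd⟩ : (17 : ℕ) ∣ Nat.card C := by
    have h := Subgroup.card_dvd_of_le hPC
    rwa [Nat.card_zpowers, hord] at h
  -- primes excluded from the centraliser
  have hno2 : ¬ (2 : ℕ) ∣ Nat.card C := by
    intro h2
    have : Fact (Nat.Prime 2) := ⟨Nat.prime_two⟩
    obtain ⟨s, hs⟩ := exists_prime_orderOf_dvd_card' 2 h2
    have hs' : orderOf (s : G) = 2 := by rw [Subgroup.orderOf_coe, hs]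
    obtain ⟨g, hg⟩ := isConj_iff.1 (isConj_pi_tG hf hs')
    have hsx : (s : G) * xB hf = xB hf * s := Subgroup.mem_centralizer_singleton_iff.1 s.2
    have hmem : g * xB hf * g⁻¹ ∈ Subgroup.centralizer ({tB hf} : Set G) := by
      rw [Subgroup.mem_centralizer_singleton_iff, tB, ← hg]
      calc g * xB hf * g⁻¹ * (g * (s : G) * g⁻¹) = g * (xB hf * s) * g⁻¹ := by group
        _ = g * (s : G) * g⁻¹ * (g * xB hf * g⁻¹) := by rw [← hsx]; group
    have h := Subgroup.orderOf_dvd_natCard _ hmem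
    rw [← MulAut.conj_apply, MulEquiv.orderOf_eq, hord] at h
    rw [card_centralizer_tB hf] at h
    norm_num at h
  have hno19 : ¬ (19 : ℕ) ∣ Nat.card C := by
    intro h19
    have : Fact (Nat.Prime 19) := ⟨by norm_num⟩
    obtain ⟨s, hs⟩ := exists_prime_orderOf_dvd_card' 19 h19
    have hs' : orderOf (s : G) = 19 := by rw [Subgroup.orderOf_coe, hs]
    let S19 : Sylow 19 G := Sylow.ofCard (Subgroup.zpowers (xBar hf)) (by
      rw [Nat.card_zpowers, orderOf_xBar hf, card_J3 hf, Nat.factorization_def _ (by norm_num),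
        show (50232960 : ℕ) = 19 ^ 1 * 2643840 by norm_num, padicValNat.mul (by norm_num)
        (by norm_num), padicValNat.prime_pow, padicValNat.eq_zero_of_not_dvd (by norm_num)]
      norm_num)
    have hp : IsPGroup 19 (Subgroup.zpowers (s : G)) :=
      IsPGroup.of_card (n := 1) (by rw [Nat.card_zpowers, hs', pow_one])
    obtain ⟨R, hR⟩ := hp.exists_le_sylow
    obtain ⟨a, ha⟩ := MulAction.exists_smul_eq G R S19
    have hy : a * (s : G) * a⁻¹ ∈ Subgroup.zpowers (xBar hf) := by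
      show a * (s : G) * a⁻¹ ∈ (S19 : Subgroup G)
      rw [← ha]
      exact ⟨s, hR (Subgroup.mem_zpowers _), rfl⟩
    have hle : Subgroup.zpowers (a * (s : G) * a⁻¹) = Subgroup.zpowers (xBar hf) :=
      Subgroup.eq_of_le_of_card_ge (Subgroup.zpowers_le.2 hy) (by
        rw [Nat.card_zpowers, Nat.card_zpowers, orderOf_xBar hf, ← MulAut.conj_apply,
          MulEquiv.orderOf_eq, hs'])
    obtain ⟨k, hk⟩ := Subgroup.mem_zpowers_iff.1
      (hle.symm ▸ Subgroup.mem_zpowers (xBar hf) : xBar hf ∈ Subgroup.zpowers (a * (s : G) * a⁻¹))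
    have hsx : Commute (s : G) (xB hf) := Subgroup.mem_centralizer_singleton_iff.1 s.2
    have hmem : a * xB hf * a⁻¹ ∈ Subgroup.centralizer ({xBar hf} : Set G) := by
      rw [Subgroup.mem_centralizer_singleton_iff, ← hk, conj_zpow]
      calc a * xB hf * a⁻¹ * (a * (s : G) ^ k * a⁻¹) = a * (xB hf * (s : G) ^ k) * a⁻¹ := by group
        _ = a * (s : G) ^ k * a⁻¹ * (a * xB hf * a⁻¹) := by
          rw [← (hsx.zpow_left k).eq]; group
    have h := Subgroup.orderOf_dvd_natCard _ hmem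
    rw [card_centralizer_xBar hf, ← MulAut.conj_apply, MulEquiv.orderOf_eq, hord] at h
    norm_num at h
  have hd1 : d = 1 := by
    rw [hd] at hGN hno2 hno19
    have hdm : d * N.index = 369360 := by
      have : 136 * (d * N.index) = 136 * 369360 := by rw [← mul_assoc]; linarith
      omega
    have hdvd : d ∣ 369360 := ⟨_, hdm.symm⟩
    have h2 : ¬ 2 ∣ d := fun h => hno2 (h.mul_left 17)
    have h19 : ¬ 19 ∣ d := fun h => hno19 (h.mul_left 17)
    have hd3645 : d ∣ 1215 := by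
      have c : Nat.Coprime d (2 ^ 4 * 19) :=
        (Nat.Coprime.pow_right 4 ((Nat.prime_two.coprime_iff_not_dvd.2 h2).symm)).mul_right
          ((Nat.Prime.coprime_iff_not_dvd (by norm_num)).2 h19).symm
      exact c.dvd_of_dvd_mul_right (m := 1215) (by simpa using hdvd)
    have hmem : d ∈ Nat.divisors 1215 := Nat.mem_divisors.2 ⟨hd3645, by norm_num⟩
    have key : ∀ e ∈ Nat.divisors 1215, (369360 / e) % 17 = 1 → e = 1 := by decide +kernel
    refine key d hmem ?_
    rw [← hdm, Nat.mul_div_cancel_left _ (Nat.pos_of_ne_zero fun e => by simp [e] at hdm)]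
    exact hmod
  refine (Subgroup.eq_of_le_of_card_ge hPC ?_).symm
  show Nat.card C ≤ _
  rw [Nat.card_zpowers, hord, hd, hd1]

end

end Cfsg.Agent.H46.J3Out
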