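import Cfsg.Prelude.Def_KGroupFacts
import Cfsg.Agent.H46.J3Out.Gen
import Cfsg.Agent.H46.J3Out.Frob

/-!
The outer automorphism group of J₃ has order 2.
-/

set_option autoImplicit false

namespace Cfsg.Agent.H46.J3Out

open Cfsg.Agent.Compute
open Cfsg.Agent.H44.J3
open Cfsg.Agent.H95.J3Inv
open Cfsg.Spor (F9)

attribute [local irreducible] validM invM mulM appM oneM wmul sift checkChain normOK scalM xM powM
  bWord denM tCode cand xC cC yC wordXY

section
variable {F : Type*} [Field F] [Fintype F] {ω : F} (hf : Four F ω)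
include hf

/-- The value of a word in two elements of a group. -/
def wordVal {G : Type*} [Group G] (X Y : G) (u : List ℕ) : G :=
  (u.map fun l => if l = 0 then X else Y).prod

omit [Field F] [Fintype F] hf in
theorem map_wordVal {G : Type*} [Group G] (f : G →* G) (X Y : G) (u : List ℕ) :
    f (wordVal X Y u) = wordVal (f X) (f Y) u := by
  rw [wordVal, wordVal, map_list_prod, List.map_map]
  congr 1
  refine List.map_congr_left fun l _ => ?_
  show f (if l = 0 then X else Y) = _
  split_ifs <;> rfl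

theorem good_wordXY {X Y : ℕ} (hX : Good hf X) (hY : Good hf Y) (u : List ℕ) :
    Good hf (wordXY X Y u) ∧ pE hf (wordXY X Y u) = wordVal (pE hf X) (pE hf Y) u := by
  induction u with
  | nil =>
    rw [show wordXY X Y [] = oneM by unfold wordXY; rfl]
    exact ⟨good_one hf, pE_one hf⟩
  | cons l t ih =>
    rw [show wordXY X Y (l :: t) = mulM (cond (Nat.beq l 0) X Y) (wordXY X Y t) by
      unfold wordXY; rfl]
    have hc : Good hf (cond (Nat.beq l 0) X Y) ∧
        pE hf (cond (Nat.beq l 0) X Y) = if l = 0 then pE hf X else pE hf Y := by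
      by_cases h : l = 0
      · rw [show Nat.beq l 0 = true from Nat.beq_eq.symm ▸ h, if_pos h]
        exact ⟨hX, rfl⟩
      · rw [show Nat.beq l 0 = false by rw [Bool.eq_false_iff, Ne, Nat.beq_eq]; exact h, if_neg h]
        exact ⟨hY, rfl⟩
    obtain ⟨g, e⟩ := good_mul hf hc.1 ih.1
    refine ⟨g, ?_⟩
    rw [e, hc.2, ih.2]
    simp [wordVal]

theorem yB_facts : yB hf * yB hf = 1 ∧ yB hf ≠ 1 ∧
    ∀ r ∈ rels, wordVal (xB hf) (yB hf) r.1 ^ r.2 = 1 := by
  have h := y_ok
  simp only [Bool.and_eq_true, Bool.not_eq_true', relsHold, lall_iff] at h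
  obtain ⟨⟨h2, hne⟩, hr⟩ := h
  have gy := good_y hf
  refine ⟨?_, fun e => ?_, fun r hrm => ?_⟩
  · rw [yB, ← (good_mul hf gy gy).2]
    exact (pE_eq_one_iff hf (good_mul hf gy gy).1).1 h2
  · rw [(pE_eq_one_iff hf gy).2 e] at hne
    exact absurd hne (by simp)
  · obtain ⟨gw, ew⟩ := good_wordXY hf (good_x hf) gy r.1
    rw [xB, yB, ← ew, ← (good_pow hf gw r.2).2]
    exact (pE_eq_one_iff hf (good_pow hf gw r.2).1).1 (hr r hrm)

theorem closure_xy : Subgroup.closure ({xB hf, yB hf} : Set (Cfsg.Spor.J3 F ω)) = ⊤ := by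
  have h := basic_words_ok
  simp only [Bool.and_eq_true, allN_iff, Nat.beq_eq] at h
  let K := Subgroup.closure ({xB hf, yB hf} : Set (Cfsg.Spor.J3 F ω))
  have hword : ∀ u, wordVal (xB hf) (yB hf) u ∈ K := fun u => list_prod_mem fun z hz => by
    obtain ⟨l, -, rfl⟩ := List.mem_map.1 hz
    split_ifs
    · exact Subgroup.subset_closure (Or.inl rfl)
    · exact Subgroup.subset_closure (Or.inr rfl)
  have hb5 : ∀ a < 5, pE hf (nth (oneM, oneM) basics a).1 ∈ K := by
    intro a ha
    obtain ⟨gw, ew⟩ := good_wordXY hf (good_x hf) (good_y hf) (nth ([], 0) basicWords a).1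
    obtain ⟨gs, es⟩ := good_pow hf (good_scal hf).1 (nth ([], 0) basicWords a).2
    rw [← h.2 a ha, (good_mul hf gs gw).2, es, (good_scal hf).2, one_pow, one_mul, ew]
    exact hword _
  let K' := (K.comap (π (F := F) (ω := ω))).map (Cfsg.Spor.threeJ3 F ω).subtype
  have hb : ∀ a < 10, (snd hf).den (nth (oneM, oneM) basics a).1 ∈ K' := by
    have five : ∀ a < 5, (snd hf).den (nth (oneM, oneM) basics a).1 ∈ K' := fun a ha => by
      obtain ⟨o, m⟩ := basic_mem hf (show a < 10 by omega)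
      refine ⟨⟨_, m⟩, ?_, rfl⟩
      show π (⟨_, m⟩ : Cfsg.Spor.threeJ3 F ω) ∈ K
      rw [← pE_eq hf ⟨_, m⟩ rfl]
      exact hb5 a ha
    intro a ha
    by_cases h5 : a < 5
    · exact five a h5
    · have hb' := basic_ok
      simp only [basicOK, Bool.and_eq_true, lall_iff, allN_iff, Nat.beq_eq] at hb'
      have e := (hb'.2 (a - 5) (by omega)).2
      rw [show Nat.add 5 (a - 5) = a by show 5 + (a - 5) = a; omega] at e
      have hlen : basics.length = 10 := rfl
      have inv' := (snd hf).okInv_sound (a := (nth (oneM, oneM) basics (a - 5)).1)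
        (b := (nth (oneM, oneM) basics (a - 5)).2)
        (hb'.1 _ (nth_mem (oneM, oneM) basics (a - 5) (by omega)))
      rw [e, inv'.2.2]
      exact inv_mem (five _ (by omega))
  have hbw : ∀ w : List ℕ, (∀ a ∈ w, a < 10) → (snd hf).den (bWord w) ∈ K' := by
    intro w
    induction w with
    | nil =>
      intro _
      rw [show bWord [] = mOps.one by unfold bWord; rfl, (snd hf).den_one]
      exact one_mem _
    | cons a t ih =>
      intro hw
      have oa := (basic_mem hf (hw a List.mem_cons_self)).1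
      have ot := (bWord_mem hf t fun b hb => hw b (List.mem_cons_of_mem _ hb)).1
      rw [show bWord (a :: t) = mOps.mul (nth (oneM, oneM) basics a).1 (bWord t) by
        unfold bWord; rfl, (snd hf).den_mul oa ot]
      exact mul_mem (hb a (hw a List.mem_cons_self))
        (ih fun b hb => hw b (List.mem_cons_of_mem _ hb))
  have hall : Cfsg.Spor.threeJ3 F ω ≤ K' := by
    rw [threeJ3_eq hf]
    refine (Subgroup.closure_le _).2 ?_
    have hw := words_ok
    simp only [wordsOK, Bool.and_eq_true, lall_iff, allN_iff, Nat.beq_eq, Nat.ble_eq] at hw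
    obtain ⟨⟨⟨hw, hgen⟩, hs⟩, hlen⟩ := hw
    have hword : ∀ a < genWords.length, (snd hf).den (bWord (nth [] genWords a)) ∈ K' :=
      fun a ha => hbw _ (hw _ (nth_mem _ _ a ha))
    rintro g (hg | hg)
    · refine (Subgroup.closure_le _).2 ?_ hg
      rintro _ ⟨a, ⟨p, hp, rfl⟩, rfl⟩
      obtain ⟨n, hn, rfl⟩ := List.getElem_of_mem (show p ∈ cert.lvl.gens from hp)
      have e : cert.lvl.gens[n].1 = cert.gen n := by rw [GCert.gen, nth_eq_getElem _ _ _ hn]
      rw [e, hgen n hn]
      exact hword n (by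
        have : cert.lvl.gens.length + 1 ≤ genWords.length := hlen
        omega)
    · rw [Set.mem_singleton_iff.1 hg, sEl, hs]
      exact hword _ (show cert.lvl.gens.length < genWords.length from hlen)
  rw [eq_top_iff]
  intro u _
  obtain ⟨g, rfl⟩ := QuotientGroup.mk'_surjective _ u
  obtain ⟨g', hg', e⟩ := hall g.2
  rw [← Subtype.ext e]
  exact hg'

/-- After composing with an inner automorphism, an automorphism fixes x and maps the second
generator to one of two elements. -/
theorem normalise (α : MulAut (Cfsg.Spor.J3 F ω)) : ∃ g : Cfsg.Spor.J3 F ω,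
    (MulAut.conj g * α) (xB hf) = xB hf ∧
      ((MulAut.conj g * α) (yB hf) = yB hf ∨ (MulAut.conj g * α) (yB hf) = yB' hf) := by
  have hx17 := (x_facts hf).1
  obtain ⟨hy2, hy1, hrel⟩ := yB_facts hf
  -- normalise the image of x
  obtain ⟨e, he, g, hg⟩ : ∃ e, (e = 1 ∨ e = 3) ∧ ∃ g, g * α (xB hf) * g⁻¹ = xB hf ^ e := by
    rcases conj_x hf (u := α (xB hf)) (by rw [MulEquiv.orderOf_eq, orderOf_xB hf]) with h | h
    · obtain ⟨g, hg⟩ := isConj_iff.1 h
      exact ⟨1, Or.inl rfl, g, by rw [hg, pow_one]⟩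
    · obtain ⟨g, hg⟩ := isConj_iff.1 h
      exact ⟨3, Or.inr rfl, g, hg⟩
  set β := MulAut.conj g * α with hβ
  have hβx : β (xB hf) = xB hf ^ e := by
    rw [hβ, MulAut.mul_apply, MulAut.conj_apply, hg]
  -- the image of the involution inverts x
  have htw := tB_sq hf
  set w := β (tB hf) with hw
  have hwx : w * xB hf * w⁻¹ = xB hf ^ 16 := by
    have h1 : w * xB hf ^ e * w⁻¹ = (xB hf ^ e) ^ 16 := by
      rw [← hβx, hw, ← map_inv, inv_eq_of_mul_eq_one_right htw, ← map_mul, ← map_mul,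
        (x_facts hf).2.2.1, map_pow]
    rcases he with rfl | rfl
    · rwa [pow_one] at h1
    · have h2 := congrArg (· ^ 6) h1
      simp only [conj_pow, ← pow_mul] at h2
      rwa [pow_eq_pow_of_mod hx17 (n := 1) (by norm_num), pow_one,
        pow_eq_pow_of_mod hx17 (n := 16) (by norm_num)] at h2
  have htw' : tB hf * w ∈ Subgroup.centralizer ({xB hf} : Set (Cfsg.Spor.J3 F ω)) := by
    rw [Subgroup.mem_centralizer_singleton_iff]
    calc tB hf * w * xB hf = tB hf * (w * xB hf * w⁻¹) * w := by group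
      _ = tB hf * (tB hf * xB hf * tB hf) * w := by rw [hwx, (x_facts hf).2.2.1]
      _ = xB hf * (tB hf * w) := by simp only [← mul_assoc, htw, one_mul]
  rw [centralizer_xB hf] at htw'
  obtain ⟨k, hk⟩ := mem_powers_iff_mem_zpowers.2 htw'
  change xB hf ^ k = tB hf * w at hk
  have hwk : w = tB hf * xB hf ^ k := by rw [hk, ← mul_assoc, htw, one_mul]
  have htpow : ∀ n, tB hf * xB hf ^ n = xB hf ^ (16 * n) * tB hf := by
    intro n
    rw [pow_mul, ← (x_facts hf).2.2.1]
    have : (tB hf * xB hf * tB hf) ^ n = tB hf * xB hf ^ n * tB hf := by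
      conv_lhs => rw [show tB hf * xB hf * tB hf = tB hf * xB hf * (tB hf)⁻¹ by
        rw [inv_eq_of_mul_eq_one_right htw]]
      rw [conj_pow, inv_eq_of_mul_eq_one_right htw]
    rw [this, mul_assoc, htw, mul_one]
  -- move it to the involution
  set γ := MulAut.conj ((xB hf ^ (8 * k))⁻¹) * β with hγ
  have hγx : γ (xB hf) = xB hf ^ e := by
    rw [hγ, MulAut.mul_apply, hβx, MulAut.conj_apply, inv_inv,
      ((Commute.pow_pow_self (xB hf) (8 * k) e).inv_left).eq, inv_mul_cancel_right]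
  have hγt : γ (tB hf) = tB hf := by
    rw [hγ, MulAut.mul_apply, ← hw, hwk, MulAut.conj_apply, inv_inv]
    calc (xB hf ^ (8 * k))⁻¹ * (tB hf * xB hf ^ k) * xB hf ^ (8 * k)
        = (xB hf ^ (8 * k))⁻¹ * (tB hf * xB hf ^ (k + 8 * k)) := by rw [pow_add]; group
      _ = (xB hf ^ (8 * k))⁻¹ * (xB hf ^ (8 * k) * tB hf) := by
        rw [htpow, pow_eq_pow_of_mod hx17 (m := 16 * (k + 8 * k)) (n := 8 * k) (by omega)]
      _ = tB hf := inv_mul_cancel_left _ _
  -- the image of the second generator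
  have hyC : yB hf ∈ Subgroup.centralizer ({tB hf} : Set (Cfsg.Spor.J3 F ω)) := by
    rw [yB, show yC = cand 0 23 by unfold yC; rfl]
    obtain ⟨gq, ga⟩ := And.intro (good_elt hf q_lok (i := 0) (by rw [q_card]; norm_num))
      (good_elt hf alt_lok (i := 23) (by rw [alt_card]; norm_num))
    rw [show cand 0 23 = mulM (qC.elt 0) (altC.elt 23) by unfold cand; rfl, (good_mul hf gq ga).2,
      pE_eq hf ⟨_, gq.2⟩ rfl, pE_eq hf ⟨_, ga.2⟩ rfl]
    exact mul_mem
      (map_le_centralizer hf q_lok (fun p hp => List.mem_append_left _ hp)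
        ⟨_, (mem_sub hf q_lok).2 ⟨0, by rw [q_card]; norm_num, rfl⟩, rfl⟩)
      (map_le_centralizer hf alt_lok (fun p hp => List.mem_append_right _ hp)
        ⟨_, (mem_sub hf alt_lok).2 ⟨23, by rw [alt_card]; norm_num, rfl⟩, rfl⟩)
  have hγy : γ (yB hf) ∈ Subgroup.centralizer ({tB hf} : Set (Cfsg.Spor.J3 F ω)) := by
    rw [Subgroup.mem_centralizer_singleton_iff]
    conv_lhs => rw [← hγt, ← map_mul, Subgroup.mem_centralizer_singleton_iff.1 hyC, map_mul, hγt]
  obtain ⟨i, hi, j, hj, hij⟩ := (centralizer_facts hf).1 _ hγy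
  have gc := good_cand hf hi hj
  have hsq : isScal (mulM (cand i j) (cand i j)) = true := by
    rw [pE_eq_one_iff hf (good_mul hf gc gc).1, (good_mul hf gc gc).2, ← hij, ← map_mul, hy2,
      map_one]
  have nofail : ∀ X, Good hf X → pE hf X = xB hf ^ e → relFails X (cand i j) = false := by
    intro X gX eX
    rw [relFails]
    cases hl : lfind rels (fun r => !isScal (powM (wordXY X (cand i j) r.1) r.2)) with
    | none => rfl
    | some r =>
      exfalso
      obtain ⟨hrm, hr⟩ := lfind_some hl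
      obtain ⟨gw, ew⟩ := good_wordXY hf gX gc r.1
      rw [(pE_eq_one_iff hf (good_pow hf gw r.2).1).2 (by
        rw [(good_pow hf gw r.2).2, ew, eX, ← hij, ← hγx]
        show wordVal (γ.toMonoidHom (xB hf)) (γ.toMonoidHom (yB hf)) r.1 ^ r.2 = 1
        rw [← map_wordVal, ← map_pow, hrel r hrm, map_one])] at hr
      simp at hr
  have hrow : candRow i = true := by
    have h0 := (allN_iff _ _).1 cand_ok0
    have h1 := (allN_iff _ _).1 cand_ok1
    rcases lt_or_ge i 16 with q | q
    · exact h0 i q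
    · have := h1 (i - 16) (by omega)
      rwa [show Nat.add 16 (i - 16) = i by show 16 + (i - 16) = i; omega] at this
  have hc := (allN_iff _ _).1 hrow j hj
  simp only [hsq, Bool.not_true, Bool.false_or, Bool.and_eq_true, Bool.or_eq_true,
    Nat.beq_eq] at hc
  refine ⟨(xB hf ^ (8 * k))⁻¹ * g, ?_⟩
  rw [show MulAut.conj ((xB hf ^ (8 * k))⁻¹ * g) * α = γ by rw [map_mul, mul_assoc]]
  rcases he with rfl | rfl
  · have h' := nofail xC (good_x hf) (by rw [pow_one]; rfl)
    rw [h'] at hc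
    simp only [Bool.false_eq_true, or_false] at hc
    obtain ⟨⟨hi', rfl⟩, -⟩ := hc
    refine ⟨by rw [hγx, pow_one], ?_⟩
    rcases hi' with rfl | rfl
    · exact Or.inl (hij.trans (by rw [yB, show yC = cand 0 23 by unfold yC; rfl]))
    · exact Or.inr hij
  · have h' := nofail (powM xC 3) (good_pow hf (good_x hf) 3).1 (good_pow hf (good_x hf) 3).2
    rw [h'] at hc
    simp at hc

theorem tauJ_not_inner : tauJ hf ∉ Cfsg.Inn (Cfsg.Spor.J3 F ω) := by
  rintro ⟨g', hg'⟩
  obtain ⟨g, rfl⟩ := QuotientGroup.mk'_surjective _ g'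
  change MulAut.conj (π g) = tauJ hf at hg'
  obtain ⟨ox, mx⟩ := x_mem hf
  let X : Cfsg.Spor.threeJ3 F ω := ⟨xEl hf, mx⟩
  have e0 : π (tauT hf X) = π g * π X * (π g)⁻¹ := by
    have h := DFunLike.congr_fun hg' (π X)
    rw [MulAut.conj_apply] at h
    exact h.symm
  rw [← map_inv, ← map_mul, ← map_mul] at e0
  have hz : (g * X * g⁻¹)⁻¹ * tauT hf X ∈ Subgroup.center (Cfsg.Spor.threeJ3 F ω) :=
    pi_eq_one.1 (by rw [map_mul, map_inv, e0, inv_mul_cancel])
  generalize hze : (g * X * g⁻¹)⁻¹ * tauT hf X = z at hz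
  have e : tauT hf X = g * X * g⁻¹ * z := by rw [← hze, mul_inv_cancel_left]
  have hz3 := center_cube hf hz
  have h19 : X ^ 19 = 1 := Subtype.ext (by
    show xEl hf ^ 19 = 1
    rw [← orderOf_xEl hf, pow_orderOf_eq_one])
  have hzc : Commute (g * X * g⁻¹) z := Subgroup.mem_center_iff.1 hz _
  have e19 : z ^ 19 = 1 := by
    have h := congrArg (· ^ 19) e
    simp only [hzc.mul_pow, conj_pow, h19, mul_one, mul_inv_cancel, one_mul, ← map_pow,
      map_one] at h
    exact h.symm
  have hz1 : z = 1 := by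
    have h := e19
    rwa [show z ^ 19 = (z ^ 3) ^ 6 * z by rw [← pow_mul, ← pow_succ], hz3, one_pow, one_mul] at h
  rw [hz1, mul_one] at e
  have e' := congrArg (fun u : Cfsg.Spor.threeJ3 F ω =>
    Matrix.trace ((u : GL F9 F) : Matrix F9 F9 F)) e
  simp only [Subgroup.coe_mul, Units.val_mul, Subgroup.coe_inv] at e'
  rw [Matrix.trace_mul_comm (((g : GL F9 F) : Matrix F9 F9 F) * ((X : GL F9 F) : Matrix F9 F9 F)), ← Matrix.mul_assoc, Units.inv_mul,
    Matrix.one_mul] at e'
  change Matrix.trace (tau hf (xEl hf : Matrix F9 F9 F)) = _ at e'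
  rw [trace_tau] at e'
  have et : Matrix.trace (xEl hf : Matrix F9 F9 F) = 1 + ω := by
    have h := trace_ok
    simp only [Bool.and_eq_true] at h
    have := trace_den hf (m := xM) ⟨ox, mx⟩
    rw [h.1.2, h.2] at this
    simpa [bitF, xEl] using this
  rw [show ((X : GL F9 F) : Matrix F9 F9 F) = (xEl hf : Matrix F9 F9 F) from rfl, et] at e'
  have h1 : (1 : F) = 0 := by linear_combination hf.root - e'
  exact one_ne_zero h1

/-- Out(J₃) has order 2. -/
theorem card_out : Nat.card (Cfsg.Out (Cfsg.Spor.J3 F ω)) = 2 := by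
  classical
  have := finite_J3 hf
  let G := Cfsg.Spor.J3 F ω
  have huniq : ∀ a b : MulAut G, a ∉ Cfsg.Inn G → b ∉ Cfsg.Inn G →
      (QuotientGroup.mk a : Cfsg.Out G) = QuotientGroup.mk b := by
    intro a b ha hb
    have heq : ∀ c d : MulAut G, c (xB hf) = d (xB hf) → c (yB hf) = d (yB hf) → c = d := by
      intro c d hx hy
      have h := MonoidHom.eq_of_eqOn_dense (f := c.toMonoidHom) (g := d.toMonoidHom)
        (closure_xy hf) (by rintro z (rfl | rfl) <;> assumption)
      exact MulEquiv.ext fun z => DFunLike.congr_fun h z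
    have key : ∀ c : MulAut G, c ∉ Cfsg.Inn G → ∃ g : G,
        (MulAut.conj g * c) (xB hf) = xB hf ∧ (MulAut.conj g * c) (yB hf) = yB' hf := by
      intro c hc
      obtain ⟨g, hgx, hgy⟩ := normalise hf c
      refine ⟨g, hgx, hgy.resolve_left fun hgy => hc ?_⟩
      have h1 := heq (MulAut.conj g * c) 1 hgx hgy
      refine ⟨g⁻¹, ?_⟩
      rw [map_inv, inv_eq_of_mul_eq_one_right h1]
    obtain ⟨g1, x1, y1⟩ := key a ha
    obtain ⟨g2, x2, y2⟩ := key b hb
    have h := heq _ _ (x1.trans x2.symm) (y1.trans y2.symm)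
    have hm : ∀ (g : G) (c : MulAut G),
        (QuotientGroup.mk (MulAut.conj g * c) : Cfsg.Out G) = QuotientGroup.mk c := fun g c => by
      have h1 : QuotientGroup.mk' (Cfsg.Inn G) (MulAut.conj g) = 1 :=
        (QuotientGroup.eq_one_iff _).2 (MonoidHom.mem_range.2 ⟨g, rfl⟩)
      show QuotientGroup.mk' (Cfsg.Inn G) (MulAut.conj g * c) = QuotientGroup.mk' (Cfsg.Inn G) c
      rw [map_mul, h1, one_mul]
    rw [← hm g1 a, h, hm g2 b]
  rw [Nat.card_eq_two_iff]
  refine ⟨1, QuotientGroup.mk (tauJ hf), fun e => tauJ_not_inner hf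
    ((QuotientGroup.eq_one_iff _).1 e.symm), ?_⟩
  rw [Set.eq_univ_iff_forall]
  intro q
  obtain ⟨a, rfl⟩ := QuotientGroup.mk_surjective q
  by_cases ha : a ∈ Cfsg.Inn G
  · exact Or.inl ((QuotientGroup.eq_one_iff _).2 ha)
  · exact Or.inr (huniq a _ ha (tauJ_not_inner hf))

end

end Cfsg.Agent.H46.J3Out
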